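import Cfsg.Agent.H788.Rl.Low
import Cfsg.Agent.H852.NCPsl11

/-!
# The sharp residual table for `SL_n(q)`, `3 ≤ n ≤ 9` (helper788, for S3691, PSL-3')

* `res_tab` : a maximal subgroup of `SL_n(q)` in the residual class, of order divisible by a primitive prime divisor of
  `p ^ (f k) - 1`, `k = n - 1` or `n`: `n ≠ 7, 8`, the order is at most `C n`, `f = 1` for `n ≠ 3`, `f ≤ 2`
-/

set_option autoImplicit false

namespace Cfsg.Agent.H788.Rl

open Cfsg Cfsg.Geo Matrix
open scoped MatrixGroups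

/-- the bounds -/
def C : ℕ → ℕ
  | 3 => 4320
  | 4 => 207360
  | 5 => 7920
  | 6 => 156764160
  | 9 => 61560
  | _ => 1

section core

variable {ι : Type} [Fintype ι] [DecidableEq ι] {F : Type*} [Field F] {H P : Subgroup (GL ι F)}

theorem card_ker_one [Nonempty ι] [Fintype F] {X : Type*} [Group X] (hHS : H ≤ specialLinear ι F) (φ : H →* X)
    (hφ : ∀ h : H, φ h = 1 → (h : GL ι F) ∈ scalars ι F)
    (hc : Nat.Coprime (Fintype.card ι) (Fintype.card F - 1)) : Nat.card φ.ker = 1 := by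
  obtain ⟨ψ, hψ⟩ := exists_rou hHS φ hφ
  have h1 : ∀ x : φ.ker, x = 1 := by
    intro x
    apply hψ
    rw [map_one]
    apply Subtype.ext
    have h2 : ((ψ x : rootsOfUnity (Fintype.card ι) F) : Fˣ) ^ Fintype.card ι = 1 := (mem_rootsOfUnity _ _).1 (ψ x).2
    have h3 : ((ψ x : rootsOfUnity (Fintype.card ι) F) : Fˣ) ^ (Fintype.card F - 1) = 1 := by
      have h4 := pow_card_eq_one' (x := ((ψ x : rootsOfUnity (Fintype.card ι) F) : Fˣ))
      rwa [Nat.card_units, Nat.card_eq_fintype_card (α := F)] at h4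
    have h4 := orderOf_dvd_of_pow_eq_one h2
    have h5 := orderOf_dvd_of_pow_eq_one h3
    have h6 := Nat.dvd_gcd h4 h5
    rw [hc.gcd_eq_one, Nat.dvd_one, orderOf_eq_one_iff] at h6
    exact h6
  have : Subsingleton φ.ker := ⟨fun x y => by rw [h1 x, h1 y]⟩
  exact Nat.card_of_subsingleton 1

/-- the order when there are no scalars -/
theorem card_le_one_of_equiv [Nonempty ι] [Fintype F] (hP : IsResidualCore H P) (hHS : H ≤ specialLinear ι F)
    (hc : Nat.Coprime (Fintype.card ι) (Fintype.card F - 1)) {S : Type*}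
    [Group S] (e : (P ⧸ (scalars ι F).subgroupOf P) ≃* S) : Nat.card H ≤ Nat.card (MulAut S) := by
  classical
  obtain ⟨φ, hφ⟩ := Cfsg.Agent.H269.U5.exists_act hP
  rw [card_eq φ, card_ker_one hHS φ hφ hc, one_mul, ← Nat.card_congr (MulAut.congr e).toEquiv]
  exact Nat.card_le_card_of_injective _ (Subgroup.subtype_injective _)

/-- the prime powers dividing the order of a residual subgroup -/
theorem pow_dvd_of_equiv [Nonempty ι] [Fintype F] (hP : IsResidualCore H P) (hHS : H ≤ specialLinear ι F) {u a : ℕ}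
    (hu : u.Prime) (hu1 : ¬ u ∣ Fintype.card F - 1) (h : u ^ a ∣ Nat.card H) {S : Type*} [Group S]
    (e : (P ⧸ (scalars ι F).subgroupOf P) ≃* S) : u ^ a ∣ Nat.card (MulAut S) := by
  classical
  obtain ⟨φ, hφ⟩ := Cfsg.Agent.H269.U5.exists_act hP
  rw [card_eq φ] at h
  have h1 : Nat.Coprime (u ^ a) (Nat.card φ.ker) := by
    apply Nat.Coprime.pow_left
    rw [hu.coprime_iff_not_dvd]
    intro h2
    exact hu1 (h2.trans (card_ker_dvd hHS φ hφ))
  rw [← Nat.card_congr (MulAut.congr e).toEquiv]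
  exact (h1.dvd_of_dvd_mul_left h).trans (Subgroup.card_subgroup_dvd_card _)

end core

theorem le_seven {u m a : ℕ} (hu : u.Prime) (h : u ∣ m) (hm : m ∣ 210 ^ a) : u ≤ 7 := by
  have h1 : u ∣ 2 * 3 * 5 * 7 := hu.dvd_of_dvd_pow (h.trans hm)
  rcases (hu.dvd_mul).1 h1 with h2 | h2
  · rcases (hu.dvd_mul).1 h2 with h3 | h3
    · rcases (hu.dvd_mul).1 h3 with h4 | h4
      · exact (Nat.le_of_dvd (by norm_num) h4).trans (by norm_num)
      · exact (Nat.le_of_dvd (by norm_num) h4).trans (by norm_num)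
    · exact (Nat.le_of_dvd (by norm_num) h3).trans (by norm_num)
  · exact (Nat.le_of_dvd (by norm_num) h2)

theorem le_five {u m a : ℕ} (hu : u.Prime) (h : u ∣ m) (hm : m ∣ 30 ^ a) : u ≤ 5 := by
  have h1 : u ∣ 2 * 3 * 5 := hu.dvd_of_dvd_pow (h.trans hm)
  rcases (hu.dvd_mul).1 h1 with h2 | h2
  · rcases (hu.dvd_mul).1 h2 with h3 | h3
    · exact (Nat.le_of_dvd (by norm_num) h3).trans (by norm_num)
    · exact (Nat.le_of_dvd (by norm_num) h3).trans (by norm_num)
  · exact (Nat.le_of_dvd (by norm_num) h2)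

theorem mulAut_l219 : Nat.card (MulAut (Matrix.ProjectiveSpecialLinearGroup (Fin 2) (ZMod 19))) = 6840 := by
  have : Fact (Nat.Prime 19) := ⟨by norm_num⟩
  rw [Cfsg.Agent.S0813.result 19 1 le_rfl (by rw [ZMod.card, pow_one]) 2 le_rfl (fun _ => by norm_num),
    Cfsg.Agent.S0265.result, Cfsg.Agent.ClassicalGeometry.PSL2Basic.card_SL2, ZMod.card]
  norm_num

theorem mulAut_l34 {K : Type*} [Field K] [Fintype K] (hK : Fintype.card K = 4) :
    Nat.card (MulAut (Matrix.ProjectiveSpecialLinearGroup (Fin 3) K)) ∣ 725760 := by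
  have : Fact (Nat.Prime 2) := ⟨Nat.prime_two⟩
  rw [Cfsg.Agent.S0813.result (F := K) 2 2 (by norm_num) (by rw [hK]; norm_num) 3 (by norm_num) (by norm_num)]
  have h2 : Nat.card (GL (Fin 3) K) = 181440 := by
    rw [Matrix.card_GL_field]
    simp [Fin.prod_univ_three, hK]
  have h3 : Nat.card (Matrix.ProjGenLinGroup (Fin 3) K) ∣ 181440 := by
    rw [← h2]
    exact Subgroup.card_quotient_dvd_card _
  rw [if_neg (by norm_num), show (725760 : ℕ) = 2 * 2 * 181440 by norm_num]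
  exact mul_dvd_mul_left _ h3

theorem mulAut_l32 : Nat.card (MulAut (Matrix.ProjectiveSpecialLinearGroup (Fin 3) (ZMod 2))) ≤ 336 := by
  have : Fact (Nat.Prime 2) := ⟨Nat.prime_two⟩
  rw [Cfsg.Agent.S0813.result (F := ZMod 2) 2 1 le_rfl (by rw [ZMod.card, pow_one]) 3 (by norm_num) (by norm_num)]
  have h2 : Nat.card (GL (Fin 3) (ZMod 2)) = 168 := by
    rw [Matrix.card_GL_field]
    simp [Fin.prod_univ_three, ZMod.card]
  have h3 : Nat.card (Matrix.ProjGenLinGroup (Fin 3) (ZMod 2)) ≤ 168 := by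
    rw [← h2]
    exact Nat.le_of_dvd Nat.card_pos (Subgroup.card_quotient_dvd_card _)
  norm_num
  omega

theorem mulAut_u33 {K : Type*} [Field K] [Fintype K] (hK : Fintype.card K = 9) :
    Nat.card (MulAut (Cfsg.PSU 3 K 3)) = 12096 := by
  have : Fact (Nat.Prime 3) := ⟨Nat.prime_three⟩
  have hK' : Fintype.card K = 3 ^ 2 := by rw [hK]; norm_num
  rw [S0815.result (F := K) 3 1 le_rfl (q := 3) (by norm_num) hK' 3 (by norm_num) (by norm_num)]
  have h := S0280.result hK' 3 (by norm_num)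
  generalize Nat.card (Cfsg.PSU 3 K 3) = N at h ⊢
  norm_num [Finset.prod_range_succ] at h
  norm_num
  omega

theorem mulAut_m11 : Nat.card (MulAut ↥Spor.M11) ≤ 7920 := by
  refine (card_le_out _).trans ?_
  rw [S2060.result, Cfsg.Agent.H852.IMMathieu.card_M11]

variable {F : Type*} [Field F] [Fintype F] {n k u p f : ℕ}

theorem bound' (hn : 0 < n) {H P : Subgroup (GL (Fin n) F)} (hP : IsResidualCore H P)
    (hHS : H ≤ specialLinear (Fin n) F) {S : Type*} [Group S] (e : (P ⧸ (scalars (Fin n) F).subgroupOf P) ≃* S)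
    {b c : ℕ} (hb : Nat.card (MulAut S) ≤ b) (hc : n * b ≤ c) : Nat.card H ≤ c := by
  have : Nonempty (Fin n) := ⟨⟨0, hn⟩⟩
  have h1 := card_le_of_equiv hP hHS e hb
  rw [Fintype.card_fin] at h1
  exact h1.trans hc

omit [Field F] in
theorem exp_eq (hp : p.Prime) (hF : Fintype.card F = p ^ f) {p' a : ℕ} (hp' : p'.Prime) (ha : a ≠ 0)
    (h : Fintype.card F = p' ^ a) : f = a := by
  have h1 : p ^ f = p' ^ a := hF.symm.trans h
  have h2 : p = p' := by
    have : p' ∣ p ^ f := by rw [h1]; exact dvd_pow_self p' ha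
    exact ((Nat.prime_dvd_prime_iff_eq hp' hp).1 (hp'.dvd_of_dvd_pow this)).symm
  subst h2
  exact Nat.pow_right_injective hp.two_le h1

omit [Field F] in
theorem exp_eq_one (hp : p.Prime) (hF : Fintype.card F = p ^ f) {p' : ℕ} (hp' : p'.Prime)
    (h : Fintype.card F = p') : f = 1 :=
  exp_eq hp hF hp' one_ne_zero (by rw [pow_one]; exact h)

/-- **PSL-3'** -/
theorem res_tab (hn : 3 ≤ n) (hn9 : n ≤ 9)
    {H : Subgroup (GL (Fin n) F)} (hH : IsMaximalIn (specialLinear (Fin n) F) H) (hS : InLinearResidualClass H)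
    (hk : n ≤ k + 1) (hkn : k ≤ n) (hu : u.Prime) (hp : p.Prime) (hF : Fintype.card F = p ^ f)
    (hordp : orderOf ((p : ℕ) : ZMod u) = f * k) (hud : u ∣ Nat.card H)
    (hun : k + 1 = n → u ≠ n ∨ u ^ 2 ∣ Nat.card H) :
    Nat.card H ≤ C n ∧ (n ≠ 3 → f = 1) ∧ f ≤ 2 ∧ n ≠ 7 ∧ n ≠ 8 := by
  have hHS : H ≤ specialLinear (Fin n) F := hH.1.le
  have : Fact u.Prime := ⟨hu⟩
  have hf : 0 < f := by
    rcases Nat.eq_zero_or_pos f with h | h
    · rw [h, pow_zero] at hF
      exact absurd hF (Fintype.one_lt_card (α := F)).ne'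
    · exact h
  have hk1 : 1 ≤ k := by omega
  have hfk : f * k ∣ u - 1 := by
    rw [← hordp]
    refine ZMod.orderOf_dvd_card_sub_one ?_
    intro h
    have h5 := pow_orderOf_eq_one ((p : ℕ) : ZMod u)
    rw [hordp, h, zero_pow (Nat.mul_ne_zero hf.ne' (by omega))] at h5
    exact zero_ne_one h5
  have hu2 := hu.two_le
  have hfk1 : f * k ≤ u - 1 := Nat.le_of_dvd (by omega) hfk
  have hku : k ≤ u - 1 := (Nat.le_mul_of_pos_left k hf).trans hfk1
  have hord : orderOf ((Fintype.card F : ℕ) : ZMod u) = k := by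
    rw [hF, Nat.cast_pow, orderOf_pow' _ hf.ne', hordp, Nat.gcd_eq_right (Dvd.intro k rfl), Nat.mul_div_cancel_left k hf]
  have hfu := not_dvd_exp hp hF hu hk1 hordp
  have hu1 : ¬ u ∣ Fintype.card F - 1 := by
    intro h
    have h1 := dvd_of_dvd hord (i := 1) (by rwa [pow_one])
    have := Nat.le_of_dvd one_pos h1
    omega
  have hne : Nonempty (Fin n) := ⟨⟨0, by omega⟩⟩
  have hud1 : u ^ 1 ∣ Nat.card H := by rwa [pow_one]
  obtain rfl | rfl | rfl | rfl | rfl | rfl | rfl : n = 3 ∨ n = 4 ∨ n = 5 ∨ n = 6 ∨ n = 7 ∨ n = 8 ∨ n = 9 := by omega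
  · obtain ⟨P, p', hP, hp', -, ⟨⟨e⟩, hc, -⟩ | ⟨⟨e⟩, hc⟩⟩ := S5776.result H hH hS
    · have hf1 : f = 1 := exp_eq_one hp hF hp' hc
      exact ⟨bound' (by norm_num) hP hHS e mulAut_l32 (by norm_num [C]), fun h => absurd rfl h, by omega, by norm_num,
        by norm_num⟩
    · refine ⟨bound' (by norm_num) hP hHS e Cfsg.Agent.H824.ProdLem.card_aut_a6.le (by norm_num [C]),
        fun h => absurd rfl h, ?_, by norm_num, by norm_num⟩
      rcases hc with ⟨h, -⟩ | ⟨h, -⟩
      · have := exp_eq_one hp hF hp' h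
        omega
      · have := exp_eq hp hF hp' two_ne_zero h
        omega
  · obtain ⟨P, p', hP, hp', hc, ⟨⟨e⟩, -⟩ | ⟨⟨K, _, _, hK, ⟨e⟩⟩, -⟩⟩ := S5782.result H hH hS
    · have hf1 : f = 1 := exp_eq_one hp hF hp' hc
      exact ⟨bound' (by norm_num) hP hHS e (Nat.le_of_dvd (by norm_num) Cfsg.Agent.H900.SU4.card_mulAut_alt_seven)
        (by norm_num [C]), fun _ => hf1, by omega, by norm_num, by norm_num⟩
    · have hf1 : f = 1 := exp_eq_one hp hF hp' hc
      exact ⟨bound' (by norm_num) hP hHS e (Nat.le_of_dvd (by norm_num) (Cfsg.Agent.H269.U5.card_aut_u42 hK))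
        (by norm_num [C]), fun _ => hf1, by omega, by norm_num, by norm_num⟩
  · obtain ⟨P, p', hP, hp', hc, ⟨⟨e⟩, -⟩ | ⟨⟨e⟩, h3⟩ | ⟨⟨K, _, _, hK, ⟨e⟩⟩, -⟩⟩ := S5794.result H hH hS
    · have hf1 : f = 1 := exp_eq_one hp hF hp' hc
      exact ⟨bound' (by norm_num) hP hHS e Cfsg.Agent.H852.NCPsl11.card_aut.le
        (by norm_num [C]), fun _ => hf1, by omega, by norm_num, by norm_num⟩
    · have hf1 : f = 1 := exp_eq_one hp hF hp' hc
      refine ⟨(card_le_one_of_equiv hP hHS ?_ e).trans (mulAut_m11.trans (by norm_num [C])), fun _ => hf1, by omega,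
        by norm_num, by norm_num⟩
      rw [hc, h3, Fintype.card_fin]
      norm_num
    · exfalso
      have h1 := pow_dvd_of_equiv hP hHS hu hu1 hud1 e
      rw [pow_one] at h1
      have h2 := h1.trans (Cfsg.Agent.H269.U5.card_aut_u42 hK)
      have h3 : u ≤ 5 := le_five (a := 7) hu h2 (by norm_num)
      have h4 : u = 5 := by omega
      have h5 : k + 1 = 5 := by omega
      rcases hun h5 with h6 | h6
      · exact h6 h4
      · have h7 := (pow_dvd_of_equiv hP hHS hu hu1 h6 e).trans (Cfsg.Agent.H269.U5.card_aut_u42 hK)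
        rw [h4] at h7
        norm_num at h7
  · obtain ⟨P, p', hP, hp', -, ⟨⟨e⟩, hc, -⟩ | ⟨⟨e⟩, hc⟩ | ⟨⟨K, _, _, hK, ⟨e⟩⟩, hc, -⟩ | ⟨⟨e⟩, hc⟩ |
      ⟨⟨K, _, _, hK, ⟨e⟩⟩, hc, -⟩ | ⟨⟨e⟩, -⟩⟩ := S5800.result H hH hS
    · have hf1 : f = 1 := exp_eq_one hp hF hp' hc
      exact ⟨bound' (by norm_num) hP hHS e Cfsg.Agent.H852.NCPsl11.card_aut.le
        (by norm_num [C]), fun _ => hf1, by omega, by norm_num, by norm_num⟩
    · have hf1 : f = 1 := by
        rcases hc with ⟨h, -⟩ | ⟨h, -⟩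
        · exact exp_eq_one hp hF hp' h
        · exfalso
          have h1 := exp_eq hp hF hp' two_ne_zero h
          have h2 := pow_dvd_of_equiv hP hHS hu hu1 hud1 e
          rw [pow_one] at h2
          have h3 : u ≤ 7 := le_seven (a := 4) hu (h2.trans Cfsg.Agent.H900.SU4.card_mulAut_alt_seven) (by norm_num)
          rw [h1] at hfk1
          omega
      exact ⟨bound' (by norm_num) hP hHS e (Nat.le_of_dvd (by norm_num) Cfsg.Agent.H900.SU4.card_mulAut_alt_seven)
        (by norm_num [C]), fun _ => hf1, by omega, by norm_num, by norm_num⟩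
    · have hf1 : f = 1 := exp_eq_one hp hF hp' hc
      exact ⟨bound' (by norm_num) hP hHS e (Nat.le_of_dvd (by norm_num) (mulAut_l34 hK)) (by norm_num [C]),
        fun _ => hf1, by omega, by norm_num, by norm_num⟩
    · have hf1 : f = 1 := exp_eq_one hp hF Nat.prime_three hc
      exact ⟨bound' (by norm_num) hP hHS e aut_m12 (by norm_num [C, B]),
        fun _ => hf1, by omega, by norm_num, by norm_num⟩
    · have hf1 : f = 1 := exp_eq_one hp hF hp' hc
      exact ⟨bound' (by norm_num) hP hHS e (aut_u43 hK) (by norm_num [C, B]), fun _ => hf1, by omega, by norm_num,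
        by norm_num⟩
    · exact (big (by norm_num) hu hord hfu hP hHS hud (c := 1) (Or.inl rfl) (by rw [pow_one]) (by omega) e).elim
  · exfalso
    obtain ⟨P, p', hP, -, -, -, K, _, _, hK, ⟨e⟩⟩ := S5809.result H hH hS
    have h1 := pow_dvd_of_equiv hP hHS hu hu1 hud1 e
    rw [pow_one, mulAut_u33 hK] at h1
    have h3 : u ≤ 7 := le_seven (a := 6) hu h1 (by norm_num)
    have h4 : u = 7 := by omega
    have h5 : k + 1 = 7 := by omega
    rcases hun h5 with h6 | h6
    · exact h6 h4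
    · have h7 := pow_dvd_of_equiv hP hHS hu hu1 h6 e
      rw [mulAut_u33 hK, h4] at h7
      norm_num at h7
  · exfalso
    obtain ⟨P, p', hP, -, -, ⟨K, _, _, hK, ⟨e⟩⟩, -⟩ := S5818.result H hH hS
    have h1 := pow_dvd_of_equiv hP hHS hu hu1 hud1 e
    rw [pow_one] at h1
    have h3 : u ≤ 7 := le_seven (a := 8) hu (h1.trans (mulAut_l34 hK)) (by norm_num)
    omega
  · obtain ⟨P, hP, ⟨⟨e⟩, -⟩ | ⟨⟨e⟩, hc, -⟩ | ⟨K, _, _, hK, ⟨e⟩⟩⟩ := S5830.result H hH hS
    · exfalso
      have h2 := pow_dvd_of_equiv hP hHS hu hu1 hud1 e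
      rw [pow_one] at h2
      have h3 : u ≤ 7 := le_seven (a := 4) hu (h2.trans Cfsg.Agent.H900.SU4.card_mulAut_alt_seven) (by norm_num)
      omega
    · have hf1 : f = 1 := exp_eq_one hp hF hc rfl
      exact ⟨bound' (by norm_num) hP hHS e mulAut_l219.le (by norm_num [C]), fun _ => hf1, by omega, by norm_num,
        by norm_num⟩
    · exact (big (by norm_num) hu hord hfu hP hHS hud (c := 2) (Or.inr rfl) hK (by omega) e).elim

end Cfsg.Agent.H788.Rl
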