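import Cfsg.Agent.H788.Rl.Aut
import Cfsg.Agent.H788.Rl.Core
import Cfsg.Agent.S5776
import Cfsg.Agent.S5782
import Cfsg.Agent.S5794
import Cfsg.Agent.S5800
import Cfsg.Agent.S5809
import Cfsg.Agent.S5818
import Cfsg.Agent.S5830

/-!
# Residual subgroups of `SL_n(q)`, `3 ≤ n ≤ 9`, of order divisible by a primitive prime divisor (helper788, for S3691)

* `res_low` : the order is at most `9 |Aut U₄(3)|`
* `res_low_ppd` : the same for a primitive prime divisor of `p ^ (f k) - 1`, `q = p ^ f`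
-/

set_option autoImplicit false

namespace Cfsg.Agent.H788.Rl

open Cfsg Cfsg.Geo Matrix

variable {F : Type*} [Field F] [Fintype F] {n k u : ℕ}

theorem bound (hn : 0 < n) (hn9 : n ≤ 9) {H P : Subgroup (GL (Fin n) F)} (hP : IsResidualCore H P)
    (hHS : H ≤ specialLinear (Fin n) F) {S : Type*} [Group S] (e : (P ⧸ (scalars (Fin n) F).subgroupOf P) ≃* S)
    (hb : Nat.card (MulAut S) ≤ B) : Nat.card H ≤ 9 * 26127360 := by
  have : Nonempty (Fin n) := ⟨⟨0, hn⟩⟩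
  have h1 := card_le_of_equiv hP hHS e hb
  rw [Fintype.card_fin] at h1
  exact h1.trans (Nat.mul_le_mul_right _ hn9)

omit [Field F] in
theorem pow_eq (hord : orderOf ((Fintype.card F : ℕ) : ZMod u) = k) :
    ((Fintype.card F : ℕ) : ZMod u) ^ k = 1 := by
  rw [← hord]; exact pow_orderOf_eq_one _

theorem dvd_of_dvd (hord : orderOf ((Fintype.card F : ℕ) : ZMod u) = k) {i : ℕ}
    (h : u ∣ Fintype.card F ^ i - 1) : k ∣ i := by
  rw [← hord]
  apply orderOf_dvd_of_pow_eq_one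
  have h1 : 1 ≤ Fintype.card F ^ i := Nat.one_le_pow _ _ Fintype.card_pos
  have h2 : ((Fintype.card F ^ i - 1 : ℕ) : ZMod u) = 0 := (ZMod.natCast_eq_zero_iff _ _).2 h
  rw [Nat.cast_sub h1, Nat.cast_pow, Nat.cast_one, sub_eq_zero] at h2
  exact h2

omit [Field F] in
theorem ne_zero (hu : u.Prime) (hk : 1 ≤ k) (hord : orderOf ((Fintype.card F : ℕ) : ZMod u) = k) :
    ((Fintype.card F : ℕ) : ZMod u) ≠ 0 := by
  have : Fact u.Prime := ⟨hu⟩
  intro h
  have h1 := pow_eq hord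
  rw [h, zero_pow (by omega)] at h1
  exact zero_ne_one h1

theorem dvd_pred (hu : u.Prime) (hk : 1 ≤ k) (hord : orderOf ((Fintype.card F : ℕ) : ZMod u) = k) : k ∣ u - 1 := by
  have : Fact u.Prime := ⟨hu⟩
  rw [← hord]
  exact ZMod.orderOf_dvd_card_sub_one (ne_zero hu hk hord)

/-- the socles `L₃(q)` and `L₃(q²)` -/
theorem big (hn : 0 < n) (hu : u.Prime) (hord : orderOf ((Fintype.card F : ℕ) : ZMod u) = k)
    (hfu : ∀ p f : ℕ, p.Prime → Fintype.card F = p ^ f → ¬ u ∣ f)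
    {H P : Subgroup (GL (Fin n) F)} (hP : IsResidualCore H P) (hHS : H ≤ specialLinear (Fin n) F)
    (hud : u ∣ Nat.card H) {K : Type*} [Field K] [Fintype K] {c : ℕ} (hc : c = 1 ∨ c = 2)
    (hK : Fintype.card K = Fintype.card F ^ c) (hk : 3 * c < k)
    (e : (P ⧸ (scalars (Fin n) F).subgroupOf P) ≃* Matrix.ProjectiveSpecialLinearGroup (Fin 3) K) : False := by
  have : Nonempty (Fin n) := ⟨⟨0, hn⟩⟩
  have hk1 : 1 ≤ k := by omega
  have hk3 : 3 < k := by rcases hc with h | h <;> omega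
  obtain ⟨p, hp⟩ := CharP.exists F
  obtain ⟨m, hpp, hm⟩ := FiniteField.card F p
  have hfu' : ¬ u ∣ (m : ℕ) := hfu p m hpp hm
  have hup := dvd_pred hu hk1 hord
  have hu2 : u ≠ 2 := by
    rintro rfl
    have := Nat.le_of_dvd (by norm_num) hup
    omega
  rcases prime_dvd_of_equiv hP hHS hu hud e with h | h
  · have h1 := dvd_of_dvd hord (i := 1) (by rwa [pow_one])
    have := Nat.le_of_dvd one_pos h1
    omega
  · have hm1 : 1 ≤ (m : ℕ) := m.pos
    have hKp : Fintype.card K = p ^ ((m : ℕ) * c) := by rw [hK, hm, pow_mul]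
    rcases prime_l3 hpp (by rcases hc with h | h <;> subst h <;> omega) hKp hu h with h1 | h1 | h1 | ⟨i, hi1, hi3, h1⟩
    · exact hu2 h1
    · rcases (hu.dvd_mul).1 h1 with h2 | h2
      · exact hfu' h2
      · rcases hc with h | h
        · rw [h] at h2
          exact hu.one_lt.ne' (Nat.dvd_one.1 h2)
        · rw [h] at h2
          exact hu2 ((Nat.prime_dvd_prime_iff_eq hu Nat.prime_two).1 h2)
    · apply ne_zero hu hk1 hord
      rw [ZMod.natCast_eq_zero_iff, hm, h1]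
      exact dvd_pow_self p (by omega)
    · rw [hK, ← pow_mul] at h1
      have h2 := dvd_of_dvd hord h1
      have h3 : c * i ≤ c * 3 := Nat.mul_le_mul_left _ hi3
      have h4 : 0 < c * i := Nat.mul_pos (by omega) (by omega)
      have := Nat.le_of_dvd h4 h2
      omega

/-- **PSL-3** -/
theorem res_low (hn : 3 ≤ n) (hn9 : n ≤ 9)
    {H : Subgroup (GL (Fin n) F)} (hH : IsMaximalIn (specialLinear (Fin n) F) H) (hS : InLinearResidualClass H)
    (hk : n ≤ k + 1) (hkn : k ≤ n) (hu : u.Prime) (hord : orderOf ((Fintype.card F : ℕ) : ZMod u) = k)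
    (hfu : ∀ p f : ℕ, p.Prime → Fintype.card F = p ^ f → ¬ u ∣ f)
    (hud : u ∣ Nat.card H) : Nat.card H ≤ 9 * 26127360 := by
  have hHS : H ≤ specialLinear (Fin n) F := hH.1.le
  obtain rfl | rfl | rfl | rfl | rfl | rfl | rfl : n = 3 ∨ n = 4 ∨ n = 5 ∨ n = 6 ∨ n = 7 ∨ n = 8 ∨ n = 9 := by omega
  · obtain ⟨P, p, hP, -, -, ⟨⟨e⟩, -⟩ | ⟨⟨e⟩, -⟩⟩ := S5776.result H hH hS
    · exact bound (by norm_num) hn9 hP hHS e aut_l32
    · exact bound (by norm_num) hn9 hP hHS e aut_a6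
  · obtain ⟨P, p, hP, -, -, ⟨⟨e⟩, -⟩ | ⟨⟨K, _, _, hK, ⟨e⟩⟩, -⟩⟩ := S5782.result H hH hS
    · exact bound (by norm_num) hn9 hP hHS e aut_a7
    · exact bound (by norm_num) hn9 hP hHS e (aut_u42 hK)
  · obtain ⟨P, p, hP, -, -, ⟨⟨e⟩, -⟩ | ⟨⟨e⟩, -⟩ | ⟨⟨K, _, _, hK, ⟨e⟩⟩, -⟩⟩ := S5794.result H hH hS
    · exact bound (by norm_num) hn9 hP hHS e aut_l211
    · exact bound (by norm_num) hn9 hP hHS e aut_m11
    · exact bound (by norm_num) hn9 hP hHS e (aut_u42 hK)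
  · obtain ⟨P, p, hP, -, -, ⟨⟨e⟩, -⟩ | ⟨⟨e⟩, -⟩ | ⟨⟨K, _, _, hK, ⟨e⟩⟩, -⟩ | ⟨⟨e⟩, -⟩ | ⟨⟨K, _, _, hK, ⟨e⟩⟩, -⟩ | ⟨⟨e⟩, -⟩⟩ :=
      S5800.result H hH hS
    · exact bound (by norm_num) hn9 hP hHS e aut_l211
    · exact bound (by norm_num) hn9 hP hHS e aut_a7
    · exact bound (by norm_num) hn9 hP hHS e (aut_l34 hK)
    · exact bound (by norm_num) hn9 hP hHS e aut_m12
    · exact bound (by norm_num) hn9 hP hHS e (aut_u43 hK)
    · exact (big (by norm_num) hu hord hfu hP hHS hud (c := 1) (Or.inl rfl) (by rw [pow_one]) (by omega) e).elim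
  · obtain ⟨P, p, hP, -, -, -, K, _, _, hK, ⟨e⟩⟩ := S5809.result H hH hS
    exact bound (by norm_num) hn9 hP hHS e (aut_u33 hK)
  · obtain ⟨P, p, hP, -, -, ⟨K, _, _, hK, ⟨e⟩⟩, -⟩ := S5818.result H hH hS
    exact bound (by norm_num) hn9 hP hHS e (aut_l34 hK)
  · obtain ⟨P, hP, ⟨⟨e⟩, -⟩ | ⟨⟨e⟩, -⟩ | ⟨K, _, _, hK, ⟨e⟩⟩⟩ := S5830.result H hH hS
    · exact bound (by norm_num) hn9 hP hHS e aut_a7
    · exact bound (by norm_num) hn9 hP hHS e aut_l219
    · exact (big (by norm_num) hu hord hfu hP hHS hud (c := 2) (Or.inr rfl) hK (by omega) e).elim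

/-- a primitive prime divisor does not divide the exponent -/
theorem not_dvd_exp {p f : ℕ} (hp : p.Prime) (hF : Fintype.card F = p ^ f) (hu : u.Prime) (hk : 1 ≤ k)
    (hordp : orderOf ((p : ℕ) : ZMod u) = f * k) : ∀ p' f' : ℕ, p'.Prime → Fintype.card F = p' ^ f' → ¬ u ∣ f' := by
  have : Fact u.Prime := ⟨hu⟩
  intro p' f' hp' hF' hd
  have hf : f ≠ 0 := by
    rintro rfl
    rw [pow_zero] at hF
    exact (Fintype.one_lt_card (α := F)).ne' hF
  have hf' : f' ≠ 0 := by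
    rintro rfl
    rw [pow_zero] at hF'
    exact (Fintype.one_lt_card (α := F)).ne' hF'
  have h1 : p ^ f = p' ^ f' := hF.symm.trans hF'
  have h2 : p = p' := by
    have : p ∣ p' ^ f' := by rw [← h1]; exact dvd_pow_self p hf
    exact (Nat.prime_dvd_prime_iff_eq hp hp').1 (hp.dvd_of_dvd_pow this)
  subst h2
  have h3 : f = f' := Nat.pow_right_injective hp.two_le h1
  subst h3
  have h4 : ((p : ℕ) : ZMod u) ≠ 0 := by
    intro h
    have h5 := pow_orderOf_eq_one ((p : ℕ) : ZMod u)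
    rw [hordp, h, zero_pow (Nat.mul_ne_zero hf (by omega))] at h5
    exact zero_ne_one h5
  have h5 : f * k ∣ u - 1 := by
    rw [← hordp]
    exact ZMod.orderOf_dvd_card_sub_one h4
  have h6 := Nat.le_of_dvd (by have := hu.two_le; omega) h5
  have h7 := Nat.le_of_dvd (Nat.pos_of_ne_zero hf) hd
  have h8 : f * 1 ≤ f * k := Nat.mul_le_mul_left _ hk
  have := hu.two_le
  omega

/-- **PSL-3** for a primitive prime divisor of `p ^ (f k) - 1` -/
theorem res_low_ppd {p f : ℕ} (hn : 3 ≤ n) (hn9 : n ≤ 9)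
    {H : Subgroup (GL (Fin n) F)} (hH : IsMaximalIn (specialLinear (Fin n) F) H) (hS : InLinearResidualClass H)
    (hk : n ≤ k + 1) (hkn : k ≤ n) (hu : u.Prime) (hp : p.Prime) (hF : Fintype.card F = p ^ f)
    (hordp : orderOf ((p : ℕ) : ZMod u) = f * k) (hud : u ∣ Nat.card H) : Nat.card H ≤ 9 * 26127360 := by
  have hf : 0 < f := by
    rcases Nat.eq_zero_or_pos f with h | h
    · rw [h, pow_zero] at hF
      exact absurd hF (Fintype.one_lt_card (α := F)).ne'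
    · exact h
  refine res_low hn hn9 hH hS hk hkn hu ?_ (not_dvd_exp hp hF hu (by omega) hordp) hud
  rw [hF, Nat.cast_pow, orderOf_pow' _ hf.ne', hordp, Nat.gcd_eq_right (Dvd.intro k rfl), Nat.mul_div_cancel_left k hf]

end Cfsg.Agent.H788.Rl
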