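import Cfsg.Agent.S0813
import Cfsg.Agent.S0815
import Cfsg.Agent.S0280
import Cfsg.Agent.S2060
import Cfsg.Agent.S2061
import Cfsg.Agent.H852.IMMathieu
import Cfsg.Agent.H900.SU4.Base
import Cfsg.Agent.H824.ProdLem
import Cfsg.Agent.H269.U5.Res

/-!
# Bounds for the automorphism groups of the socles in the residual classes of `SL_n(q)`, `n ≤ 9` (helper788, for S3691)
-/

set_option autoImplicit false

namespace Cfsg.Agent.H788.Rl

open Cfsg Cfsg.Geo Matrix

/-- the bound -/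
abbrev B : ℕ := 26127360

theorem le_of_dvd {a b : ℕ} (h : a ∣ b) (hb : 0 < b) (hB : b ≤ B) : a ≤ B := (Nat.le_of_dvd hb h).trans hB

theorem card_le_out (G : Type*) [Group G] [Finite G] : Nat.card (MulAut G) ≤ Nat.card (Out G) * Nat.card G := by
  rw [Subgroup.card_eq_card_quotient_mul_card_subgroup (Inn G)]
  refine Nat.mul_le_mul_left _ ?_
  exact Nat.card_le_card_of_surjective _ (MonoidHom.rangeRestrict_surjective (MulAut.conj : G →* MulAut G))

theorem aut_m11 : Nat.card (MulAut ↥Spor.M11) ≤ B := by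
  refine (card_le_out _).trans ?_
  rw [S2060.result, Cfsg.Agent.H852.IMMathieu.card_M11]
  norm_num [B]

theorem aut_m12 : Nat.card (MulAut ↥Spor.M12) ≤ B := by
  refine (card_le_out _).trans ?_
  rw [S2061.result, Cfsg.Agent.H852.IMMathieu.card_M12]
  norm_num [B]

theorem aut_a6 : Nat.card (MulAut (alternatingGroup (Fin 6))) ≤ B := by
  rw [Cfsg.Agent.H824.ProdLem.card_aut_a6]
  norm_num [B]

theorem aut_a7 : Nat.card (MulAut (alternatingGroup (Fin 7))) ≤ B :=
  le_of_dvd Cfsg.Agent.H900.SU4.card_mulAut_alt_seven (by norm_num) (by norm_num [B])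

theorem aut_l32 : Nat.card (MulAut (Matrix.ProjectiveSpecialLinearGroup (Fin 3) (ZMod 2))) ≤ B := by
  have : Fact (Nat.Prime 2) := ⟨Nat.prime_two⟩
  rw [Cfsg.Agent.S0813.result (F := ZMod 2) 2 1 le_rfl (by rw [ZMod.card, pow_one]) 3 (by norm_num) (by norm_num)]
  have h2 : Nat.card (GL (Fin 3) (ZMod 2)) = 168 := by
    rw [Matrix.card_GL_field]
    simp [Fin.prod_univ_three, ZMod.card]
  have h3 : Nat.card (Matrix.ProjGenLinGroup (Fin 3) (ZMod 2)) ≤ 168 := by
    rw [← h2]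
    exact Nat.le_of_dvd Nat.card_pos (Subgroup.card_quotient_dvd_card _)
  norm_num [B]
  omega

theorem aut_l219 : Nat.card (MulAut (Matrix.ProjectiveSpecialLinearGroup (Fin 2) (ZMod 19))) ≤ B := by
  have : Fact (Nat.Prime 19) := ⟨by norm_num⟩
  rw [Cfsg.Agent.S0813.result (F := ZMod 19) 19 1 le_rfl (by rw [ZMod.card, pow_one]) 2 (by norm_num) (by norm_num)]
  have h2 : Nat.card (GL (Fin 2) (ZMod 19)) = 123120 := by
    rw [Matrix.card_GL_field]
    simp [Fin.prod_univ_two, ZMod.card]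
  have h3 : Nat.card (Matrix.ProjGenLinGroup (Fin 2) (ZMod 19)) ≤ 123120 := by
    rw [← h2]
    exact Nat.le_of_dvd Nat.card_pos (Subgroup.card_quotient_dvd_card _)
  norm_num [B]
  omega

theorem aut_l211 : Nat.card (MulAut (Matrix.ProjectiveSpecialLinearGroup (Fin 2) (ZMod 11))) ≤ B :=
  le_of_dvd Cfsg.Agent.H269.U5.card_aut_l211 (by norm_num) (by norm_num [B])

theorem aut_l34 {K : Type*} [Field K] [Fintype K] (hK : Fintype.card K = 4) :
    Nat.card (MulAut (Matrix.ProjectiveSpecialLinearGroup (Fin 3) K)) ≤ B := by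
  have : Fact (Nat.Prime 2) := ⟨Nat.prime_two⟩
  rw [Cfsg.Agent.S0813.result (F := K) 2 2 (by norm_num) (by rw [hK]; norm_num) 3 (by norm_num) (by norm_num)]
  have h2 : Nat.card (GL (Fin 3) K) = 181440 := by
    rw [Matrix.card_GL_field]
    simp [Fin.prod_univ_three, hK]
  have h3 : Nat.card (Matrix.ProjGenLinGroup (Fin 3) K) ≤ 181440 := by
    rw [← h2]
    exact Nat.le_of_dvd Nat.card_pos (Subgroup.card_quotient_dvd_card _)
  norm_num [B]
  omega

theorem aut_u42 {K : Type*} [Field K] [Fintype K] (hK : Fintype.card K = 4) :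
    Nat.card (MulAut (Cfsg.PSU 4 K 2)) ≤ B :=
  le_of_dvd (Cfsg.Agent.H269.U5.card_aut_u42 hK) (by norm_num) (by norm_num [B])

theorem aut_u43 {K : Type*} [Field K] [Fintype K] (hK : Fintype.card K = 9) :
    Nat.card (MulAut (Cfsg.PSU 4 K 3)) ≤ B := by
  have : Fact (Nat.Prime 3) := ⟨Nat.prime_three⟩
  have hK' : Fintype.card K = 3 ^ 2 := by rw [hK]; norm_num
  rw [S0815.result (F := K) 3 1 le_rfl (q := 3) (by norm_num) hK' 4 (by norm_num) (by norm_num)]
  have h := S0280.result hK' 4 (by norm_num)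
  generalize Nat.card (Cfsg.PSU 4 K 3) = N at h ⊢
  norm_num [Finset.prod_range_succ] at h
  norm_num [B]
  omega

theorem aut_u33 {K : Type*} [Field K] [Fintype K] (hK : Fintype.card K = 9) :
    Nat.card (MulAut (Cfsg.PSU 3 K 3)) ≤ B := by
  have : Fact (Nat.Prime 3) := ⟨Nat.prime_three⟩
  have hK' : Fintype.card K = 3 ^ 2 := by rw [hK]; norm_num
  rw [S0815.result (F := K) 3 1 le_rfl (q := 3) (by norm_num) hK' 3 (by norm_num) (by norm_num)]
  have h := S0280.result hK' 3 (by norm_num)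
  generalize Nat.card (Cfsg.PSU 3 K 3) = N at h ⊢
  norm_num [Finset.prod_range_succ] at h
  norm_num [B]
  omega

/-- the primes of `|Aut PSL₃(K)|` -/
theorem prime_l3 {K : Type*} [Field K] [Fintype K] {p f u : ℕ} (hp : p.Prime) (hf : 1 ≤ f)
    (hK : Fintype.card K = p ^ f) (hu : u.Prime)
    (h : u ∣ Nat.card (MulAut (Matrix.ProjectiveSpecialLinearGroup (Fin 3) K))) :
    u = 2 ∨ u ∣ f ∨ u = p ∨ ∃ i : ℕ, 1 ≤ i ∧ i ≤ 3 ∧ u ∣ Fintype.card K ^ i - 1 := by
  have : Fact p.Prime := ⟨hp⟩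
  rw [Cfsg.Agent.S0813.result (F := K) p f hf hK 3 (by norm_num) (by norm_num)] at h
  rw [if_neg (by norm_num : ¬ (3 : ℕ) = 2)] at h
  have h2 : Nat.card (Matrix.ProjGenLinGroup (Fin 3) K) ∣ Nat.card (GL (Fin 3) K) := Subgroup.card_quotient_dvd_card _
  have hq : 1 ≤ Fintype.card K := Fintype.card_pos
  have h3 : Nat.card (GL (Fin 3) K) =
      (Fintype.card K ^ 3 - 1) * (Fintype.card K * (Fintype.card K ^ 2 - 1)) *
        (Fintype.card K ^ 2 * (Fintype.card K ^ 1 - 1)) := by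
    rw [Matrix.card_GL_field]
    simp only [Fin.prod_univ_three, Fin.val_zero, Fin.val_one, Fin.val_two]
    congr 1
    · congr 1
      rw [Nat.mul_sub, mul_one]
      congr 1
      · ring
      · ring
    · rw [Nat.mul_sub, mul_one]
      congr 1
      ring
  have h4 := h.trans (mul_dvd_mul_left (2 * f) h2)
  rw [h3] at h4
  have hq2 : ∀ m : ℕ, u ∣ Fintype.card K ^ m → u = p := by
    intro m hm
    rw [hK] at hm
    exact (Nat.prime_dvd_prime_iff_eq hu hp).1 (hu.dvd_of_dvd_pow (hu.dvd_of_dvd_pow hm))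
  rcases (hu.dvd_mul).1 h4 with h5 | h5
  · rcases (hu.dvd_mul).1 h5 with h6 | h6
    · exact Or.inl ((Nat.prime_dvd_prime_iff_eq hu Nat.prime_two).1 h6)
    · exact Or.inr (Or.inl h6)
  · right; right
    rcases (hu.dvd_mul).1 h5 with h6 | h6
    · rcases (hu.dvd_mul).1 h6 with h7 | h7
      · exact Or.inr ⟨3, by norm_num, by norm_num, h7⟩
      · rcases (hu.dvd_mul).1 h7 with h8 | h8
        · exact Or.inl (hq2 1 (by rwa [pow_one]))
        · exact Or.inr ⟨2, by norm_num, by norm_num, h8⟩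
    · rcases (hu.dvd_mul).1 h6 with h7 | h7
      · exact Or.inl (hq2 2 h7)
      · exact Or.inr ⟨1, by norm_num, by norm_num, h7⟩

end Cfsg.Agent.H788.Rl
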