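import Cfsg.Agent.H788.Rl.Tab
import Cfsg.Agent.H851.Rl.PDefs

/-!
# Residual groups in dimension `3 ≤ n ≤ 9` (helper788, for S3691, PSL-3'): `res_tab`, `res_both`
-/

set_option autoImplicit false

namespace Cfsg.Agent.H788.Rl9

open Cfsg Cfsg.Geo Matrix
open Cfsg.Agent.H788.Rl hiding res_tab
open Cfsg.Agent.H851.Rl (C9)
open scoped MatrixGroups

variable {F : Type*} [Field F] [Fintype F] {n k u p f : ℕ}

/-- PSL-3'a -/
theorem res_tab (hn : 3 ≤ n) (hn9 : n ≤ 9) (hk : n ≤ k + 1) (hkn : k ≤ n) (hp : p.Prime) (hF : Fintype.card F = p ^ f)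
    {u : ℕ} (hu : u.Prime) (hord : orderOf ((p : ℕ) : ZMod u) = f * k) {H : Subgroup (GL (Fin n) F)}
    (hH : IsMaximalIn (specialLinear (Fin n) F) H) (hS : InLinearResidualClass H) (hud : u ∣ Nat.card H) :
    Nat.card H ≤ C9 n k ∧ (n = 4 → f = 1) := by
  have hHS : H ≤ specialLinear (Fin n) F := hH.1.le
  by_cases h3 : n = 3
  · subst h3
    refine ⟨?_, fun h => absurd h (by norm_num)⟩
    have hC : C9 3 k = 4320 := rfl
    rw [hC]
    obtain ⟨P, p', hP, hp', -, ⟨⟨e⟩, hc, -⟩ | ⟨⟨e⟩, hc⟩⟩ := S5776.result H hH hS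
    · exact bound' (by norm_num) hP hHS e mulAut_l32 (by norm_num)
    · exact bound' (by norm_num) hP hHS e Cfsg.Agent.H824.ProdLem.card_aut_a6.le (by norm_num)
  by_cases h4 : n = 4
  · subst h4
    have hC : C9 4 k = 207360 := rfl
    rw [hC]
    obtain ⟨P, p', hP, hp', hc, ⟨⟨e⟩, -⟩ | ⟨⟨K, _, _, hK, ⟨e⟩⟩, -⟩⟩ := S5782.result H hH hS
    · exact ⟨bound' (by norm_num) hP hHS e (Nat.le_of_dvd (by norm_num) Cfsg.Agent.H900.SU4.card_mulAut_alt_seven)
        (by norm_num), fun _ => exp_eq_one hp hF hp' hc⟩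
    · exact ⟨bound' (by norm_num) hP hHS e (Nat.le_of_dvd (by norm_num) (Cfsg.Agent.H269.U5.card_aut_u42 hK))
        (by norm_num), fun _ => exp_eq_one hp hF hp' hc⟩
  refine ⟨?_, fun h => absurd h h4⟩
  by_cases h5 : n = 5 ∧ k = 5
  · obtain ⟨rfl, rfl⟩ := h5
    have hC : C9 5 5 = 39600 := rfl
    rw [hC]
    have h := (Rl.res_tab hn hn9 hH hS hk hkn hu hp hF hord hud (fun h => absurd h (by norm_num))).1
    exact h.trans (by norm_num [C])
  by_cases h7 : n = 7 ∧ k = 7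
  · obtain ⟨rfl, rfl⟩ := h7
    have h := (Rl.res_tab hn hn9 hH hS hk hkn hu hp hF hord hud (fun h => absurd h (by norm_num))).2.2.2.1
    exact absurd rfl h
  have h := res_low_ppd hn hn9 hH hS hk hkn hu hp hF hord hud
  have hC : C9 n k = 235146240 := by
    unfold C9
    rw [if_neg h3, if_neg h4, if_neg h5, if_neg h7]
  rw [hC]
  exact h

/-- the primes of a residual group -/
theorem pr_dvd (hn : 0 < n) {v j : ℕ} (hv : v.Prime) (hj : 2 ≤ j)
    (hord : orderOf ((Fintype.card F : ℕ) : ZMod v) = j) {H P : Subgroup (GL (Fin n) F)} (hP : IsResidualCore H P)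
    (hHS : H ≤ specialLinear (Fin n) F) (hvd : v ∣ Nat.card H) {S : Type*} [Group S]
    (e : (P ⧸ (scalars (Fin n) F).subgroupOf P) ≃* S) : v ∣ Nat.card (MulAut S) ∧ j ∣ v - 1 ∧ 2 ≤ v := by
  have hne : Nonempty (Fin n) := ⟨⟨0, hn⟩⟩
  have hv1 : ¬ v ∣ Fintype.card F - 1 := by
    intro h
    have h1 := dvd_of_dvd hord (i := 1) (by rwa [pow_one])
    have := Nat.le_of_dvd one_pos h1
    omega
  have h1 := pow_dvd_of_equiv hP hHS hv hv1 (a := 1) (by rwa [pow_one]) e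
  rw [pow_one] at h1
  exact ⟨h1, dvd_pred hv (by omega) hord, hv.two_le⟩

/-- a prime `v ≡ 1 (mod 5)` is at least `11` -/
theorem ge_eleven {v : ℕ} (hv : v.Prime) (h : 5 ∣ v - 1) : 11 ≤ v := by
  have := hv.two_le
  by_contra hlt
  have h1 : v = 6 := by omega
  rw [h1] at hv
  norm_num at hv

/-- PSL-3'b -/
theorem res_both {k' : ℕ} (hn : 5 ≤ n) (hn9 : n ≤ 9) (hk : n ≤ k + 1) (hkn : k ≤ n) (hk' : n ≤ k' + 1) (hkn' : k' ≤ n)
    (hne : k ≠ k') (hp : p.Prime) (hF : Fintype.card F = p ^ f) (hq : n ≤ 6 → 5 ≤ Fintype.card F)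
    {u u' : ℕ} (hu : u.Prime) (hord : orderOf ((p : ℕ) : ZMod u) = f * k)
    (hu' : u'.Prime) (hord' : orderOf ((Fintype.card F : ℕ) : ZMod u') = k') {H : Subgroup (GL (Fin n) F)}
    (hH : IsMaximalIn (specialLinear (Fin n) F) H) (hS : InLinearResidualClass H) (hud : u ∣ Nat.card H)
    (hud' : u' ∣ Nat.card H) : n = 5 ∧ Nat.card H ≤ 6600 := by
  have hHS : H ≤ specialLinear (Fin n) F := hH.1.le
  have hf : 0 < f := by
    rcases Nat.eq_zero_or_pos f with h | h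
    · rw [h, pow_zero] at hF
      exact absurd hF (Fintype.one_lt_card (α := F)).ne'
    · exact h
  have hk1 : 1 ≤ k := by omega
  have hordF : orderOf ((Fintype.card F : ℕ) : ZMod u) = k := by
    rw [hF, Nat.cast_pow, orderOf_pow' _ hf.ne', hord, Nat.gcd_eq_right (Dvd.intro k rfl), Nat.mul_div_cancel_left k hf]
  have hfu := not_dvd_exp hp hF hu hk1 hord
  -- a prime of order `n` and a prime of order `n - 1`
  obtain ⟨v, w, hv, hw, hov, how, hvd, hwd⟩ : ∃ v w : ℕ, v.Prime ∧ w.Prime ∧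
      orderOf ((Fintype.card F : ℕ) : ZMod v) = n ∧ orderOf ((Fintype.card F : ℕ) : ZMod w) = n - 1 ∧
      v ∣ Nat.card H ∧ w ∣ Nat.card H := by
    have h1 : (k = n ∧ k' = n - 1) ∨ (k = n - 1 ∧ k' = n) := by omega
    rcases h1 with ⟨h1, h2⟩ | ⟨h1, h2⟩
    · exact ⟨u, u', hu, hu', by rw [hordF, h1], by rw [hord', h2], hud, hud'⟩
    · exact ⟨u', u, hu', hu, by rw [hord', h2], by rw [hordF, h1], hud', hud⟩
  obtain rfl | rfl | rfl | rfl | rfl : n = 5 ∨ n = 6 ∨ n = 7 ∨ n = 8 ∨ n = 9 := by omega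
  · obtain ⟨P, p', hP, hp', hc, ⟨⟨e⟩, -⟩ | ⟨⟨e⟩, h3⟩ | ⟨⟨K, _, _, hK, ⟨e⟩⟩, -⟩⟩ := S5794.result H hH hS
    · exact ⟨rfl, bound' (by norm_num) hP hHS e Cfsg.Agent.H852.NCPsl11.card_aut.le (by norm_num)⟩
    · exfalso
      have := hq (by norm_num)
      omega
    · exfalso
      obtain ⟨h1, h2, -⟩ := pr_dvd (by norm_num) hv (by norm_num) hov hP hHS hvd e
      have h3 := le_five (a := 7) hv (h1.trans (Cfsg.Agent.H269.U5.card_aut_u42 hK)) (by norm_num)
      have := ge_eleven hv h2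
      omega
  · exfalso
    have key : ∀ {S : Type} [Group S] {P : Subgroup (GL (Fin 6) F)} (_ : IsResidualCore H P)
        (_ : (P ⧸ (scalars (Fin 6) F).subgroupOf P) ≃* S) {m a : ℕ}, Nat.card (MulAut S) ∣ m → m ∣ 210 ^ a → False := by
      intro S _ P hP e m a h1 h2
      obtain ⟨h3, h4, -⟩ := pr_dvd (by norm_num) hw (by norm_num) how hP hHS hwd e
      have h5 := le_seven (a := a) hw (h3.trans h1) h2
      have := ge_eleven hw (by simpa using h4)
      omega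
    obtain ⟨P, p', hP, hp', -, ⟨⟨e⟩, hc, -⟩ | ⟨⟨e⟩, hc⟩ | ⟨⟨K, _, _, hK, ⟨e⟩⟩, hc, -⟩ | ⟨⟨e⟩, hc⟩ |
      ⟨⟨K, _, _, hK, ⟨e⟩⟩, hc, -⟩ | ⟨⟨e⟩, -⟩⟩ := S5800.result H hH hS
    · obtain ⟨h3, h4, h5⟩ := pr_dvd (by norm_num) hv (by norm_num) hov hP hHS hvd e
      rw [Cfsg.Agent.H852.NCPsl11.card_aut] at h3
      have h6 : v ∣ 330 ^ 3 := h3.trans (by norm_num)
      have h7 : v ∣ 2 * 3 * 5 * 11 := hv.dvd_of_dvd_pow h6
      have h8 : v ≤ 11 := by
        rcases (hv.dvd_mul).1 h7 with h9 | h9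
        · exact (le_five (a := 1) hv h9 (by norm_num)).trans (by norm_num)
        · exact Nat.le_of_dvd (by norm_num) h9
      have h9 : v = 7 := by omega
      rw [h9] at h3
      norm_num at h3
    · exact key hP e Cfsg.Agent.H900.SU4.card_mulAut_alt_seven (a := 4) (by norm_num)
    · exact key hP e (mulAut_l34 hK) (a := 8) (by norm_num)
    · have := hq (by norm_num)
      omega
    · have h1 : Nat.card (MulAut (Cfsg.PSU 4 K 3)) ∣ 26127360 := by
        have : Fact (Nat.Prime 3) := ⟨Nat.prime_three⟩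
        have hK' : Fintype.card K = 3 ^ 2 := by rw [hK]; norm_num
        rw [S0815.result (F := K) 3 1 le_rfl (q := 3) (by norm_num) hK' 4 (by norm_num) (by norm_num)]
        have h := S0280.result hK' 4 (by norm_num)
        generalize Nat.card (Cfsg.PSU 4 K 3) = N at h ⊢
        norm_num [Finset.prod_range_succ] at h
        have hN : N = 3265920 := by omega
        rw [hN]
        norm_num
      exact key hP e h1 (a := 10) (by norm_num)
    · exact big (by norm_num) hu hordF hfu hP hHS hud (c := 1) (Or.inl rfl) (by rw [pow_one]) (by omega) e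
  · exfalso
    obtain ⟨P, p', hP, -, -, -, K, _, _, hK, ⟨e⟩⟩ := S5809.result H hH hS
    obtain ⟨h3, h4, -⟩ := pr_dvd (by norm_num) hv (by norm_num) hov hP hHS hvd e
    rw [mulAut_u33 hK] at h3
    have h5 := le_seven (a := 6) hv h3 (by norm_num)
    have := hv.two_le
    omega
  · exfalso
    obtain ⟨P, p', hP, -, -, ⟨K, _, _, hK, ⟨e⟩⟩, -⟩ := S5818.result H hH hS
    obtain ⟨h3, h4, -⟩ := pr_dvd (by norm_num) hv (by norm_num) hov hP hHS hvd e
    have h5 := le_seven (a := 8) hv (h3.trans (mulAut_l34 hK)) (by norm_num)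
    have := hv.two_le
    omega
  · exfalso
    obtain ⟨P, hP, ⟨⟨e⟩, -⟩ | ⟨⟨e⟩, hc, -⟩ | ⟨K, _, _, hK, ⟨e⟩⟩⟩ := S5830.result H hH hS
    · obtain ⟨h3, h4, -⟩ := pr_dvd (by norm_num) hv (by norm_num) hov hP hHS hvd e
      have h5 := le_seven (a := 4) hv (h3.trans Cfsg.Agent.H900.SU4.card_mulAut_alt_seven) (by norm_num)
      have := hv.two_le
      omega
    · obtain ⟨h3, h4, h5⟩ := pr_dvd (by norm_num) hw (by norm_num) how hP hHS hwd e
      rw [mulAut_l219] at h3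
      have h7 : w ∣ 30 ^ 3 * 19 := h3.trans (by norm_num)
      rcases (hw.dvd_mul).1 h7 with h9 | h9
      · have := le_five (a := 3) hw h9 dvd_rfl
        omega
      · have := (Nat.prime_dvd_prime_iff_eq hw (by norm_num)).1 h9
        omega
    · exact big (by norm_num) hu hordF hfu hP hHS hud (c := 2) (Or.inr rfl) hK (by omega) e

end Cfsg.Agent.H788.Rl9
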